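import Groth.Agent.PicLoc.K730.HensDesc
import Mathlib.RingTheory.Flat.FaithfullyFlat.Algebra

/-!
# Completion pairs and finite extensions
-/

set_option autoImplicit false
universe u

open scoped TensorProduct

namespace K473.CPFin

open K730

attribute [local instance] Algebra.TensorProduct.rightAlgebra

variable {R : Type u} [CommRing R] {I : Ideal R} {S : Type u} [CommRing S] [Algebra R S] (B : Type u) [CommRing B]
  [Algebra R B]

theorem finite_right [Module.Finite R B] : Module.Finite S (B ⊗[R] S) := by
  obtain ⟨G, hG⟩ := (inferInstance : Module.Finite R B)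
  classical
  refine ⟨⟨G.image fun b => b ⊗ₜ[R] (1 : S), ?_⟩⟩
  rw [eq_top_iff]
  rintro x -
  induction x with
  | zero => exact zero_mem _
  | add x y hx hy => exact add_mem hx hy
  | tmul b s =>
    have hb : b ∈ Submodule.span R (G : Set B) := by rw [hG]; trivial
    induction hb using Submodule.span_induction with
    | mem b hb =>
      have : b ⊗ₜ[R] s = s • (b ⊗ₜ[R] (1 : S)) := by
        rw [Algebra.smul_def]
        change _ = ((1 : B) ⊗ₜ[R] s) * _
        rw [Algebra.TensorProduct.tmul_mul_tmul, one_mul, mul_one]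
      rw [this]
      refine Submodule.smul_mem _ _ (Submodule.subset_span ?_)
      simp only [Finset.coe_image]
      exact ⟨b, hb, rfl⟩
    | zero => rw [TensorProduct.zero_tmul]; exact zero_mem _
    | add b c _ _ hb hc => rw [TensorProduct.add_tmul]; exact add_mem hb hc
    | smul r b _ hb =>
      have : (r • b) ⊗ₜ[R] s = (algebraMap R S r) • (b ⊗ₜ[R] s) := by
        rw [Algebra.smul_def (algebraMap R S r)]
        change _ = ((1 : B) ⊗ₜ[R] (algebraMap R S r)) * _
        rw [Algebra.TensorProduct.tmul_mul_tmul, one_mul, ← Algebra.smul_def, TensorProduct.tmul_smul,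
          TensorProduct.smul_tmul']
      rw [this]
      exact Submodule.smul_mem _ _ hb

theorem map_eq : (I.map (algebraMap R B)).map (algebraMap B (B ⊗[R] S)) = (I.map (algebraMap R S)).map (algebraMap S (B ⊗[R] S)) := by
  rw [Ideal.map_map, Ideal.map_map]
  congr 1
  ext r
  change (algebraMap R B r) ⊗ₜ[R] (1 : S) = (1 : B) ⊗ₜ[R] (algebraMap R S r)
  rw [Algebra.algebraMap_eq_smul_one, Algebra.algebraMap_eq_smul_one, TensorProduct.smul_tmul]

/-- Completion pairs are stable under finite extensions. -/
theorem cp_tensor [IsNoetherianRing R] (h : CP I S) [hff : Module.FaithfullyFlat R S] [Module.Finite R B] :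
    CP (I.map (algebraMap R B)) (B ⊗[R] S) := by
  have hSn := h.isNoetherianRing
  have hc := h.complete
  have hfin : Module.Finite S (B ⊗[R] S) := finite_right B
  have e1 : (I.map (algebraMap R B)).map (algebraMap B (B ⊗[R] S)) = (I.map (algebraMap R S)).map (algebraMap S (B ⊗[R] S)) :=
    map_eq B
  refine ⟨?_, fun n t => ?_, fun n b hb => ?_⟩
  · rw [e1, IsAdicComplete.map_algebraMap_iff]
    exact Groth.Agent.FormalA.AdicFin.isAdicComplete_of_finite _
  · induction t with
    | zero => exact ⟨0, by simp⟩
    | add x y hx hy =>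
      obtain ⟨a, ha⟩ := hx
      obtain ⟨b, hb⟩ := hy
      refine ⟨a + b, ?_⟩
      rw [map_add, add_sub_add_comm]
      exact Ideal.add_mem _ ha hb
    | tmul b s =>
      obtain ⟨a, ha⟩ := h.d n s
      refine ⟨b * algebraMap R B a, ?_⟩
      have e2 : b ⊗ₜ[R] s - algebraMap B (B ⊗[R] S) (b * algebraMap R B a) =
          (b ⊗ₜ[R] (1 : S)) * algebraMap S (B ⊗[R] S) (s - algebraMap R S a) := by
        change _ - (b * algebraMap R B a) ⊗ₜ[R] (1 : S) = (b ⊗ₜ[R] (1 : S)) * ((1 : B) ⊗ₜ[R] (s - algebraMap R S a))
        rw [Algebra.TensorProduct.tmul_mul_tmul, one_mul, mul_one, TensorProduct.tmul_sub, mul_comm b,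
          ← Algebra.smul_def, Algebra.algebraMap_eq_smul_one (A := S), TensorProduct.smul_tmul]
      rw [e2, e1, ← Ideal.map_pow]
      exact Ideal.mul_mem_left _ _ (Ideal.mem_map_of_mem _ ha)
  · rw [← Ideal.map_pow, ← Ideal.mem_comap, Ideal.comap_map_eq_self_of_faithfullyFlat] at hb
    exact hb

end K473.CPFin
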