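import Groth.Agent.PicLoc.K473.DescGen
import Groth.Agent.PicLoc.K473.CPFin
import Groth.Agent.PicLoc.K730.NilDefs
import Groth.Agent.FlatA.SteinNoeth
import Groth.Agent.S0526

/-!
# Descent of sharp classes from the completion to a noetherian henselian pair (S12351)

`(R, I)` noetherian henselian, `S` its completion, `f : X → Spec R` proper, `X' = X ×_R S`.  A class on `X'` which is
trivial over the local rings of `S` off `V(I)` is the pullback of a class on `X` which is trivial over the local rings of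
`R` off `V(I)`.
-/

set_option autoImplicit false
set_option linter.style.haveILetI false
universe u
open CategoryTheory CategoryTheory.Limits AlgebraicGeometry Opposite TensorProduct

namespace K473.Desc

open Groth.Agent.PicLoc.K25.PicGrpStr K730 K730.Nil K257.RTw K728.RSharp Groth.Agent Groth.Agent.Fdesc.LocGen
  K473.DescGen K473.CPFin K730.DescInv

section descent

variable {R : Type u} [CommRing R] {X : Scheme.{u}} (f : X ⟶ Spec (CommRingCat.of R))

/-- Triviality descends along faithfully flat maps to a local ring. -/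
theorem trivial_of_faithfullyFlat [QuasiCompact f] [QuasiSeparated f] (hfin : (PicLoc.globUnder f).hom.hom.Finite)
    {D D' : Under (CommRingCat.of R)} (g : D ⟶ D') (hD : D.hom.hom.Flat) (hD' : D'.hom.hom.Flat) [IsLocalRing D.right]
    (hg : g.right.hom.Flat) (hs : Function.Surjective (Spec.map g.right)) {c : PicF.Cl (tw f D)}
    (hc : PicF.IsInvertibleCl c) (h : PicF.pullCl (mp f g) c = un _) : c = un _ := by
  obtain ⟨L, rfl, hL⟩ := hc
  have hfl : Flat (mp (PicLoc.fS f) g) := flat_mp (PicLoc.fS f) g hg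
  have : CompactSpace X := (quasiCompact_iff_compactSpace f).mp inferInstance
  have : QuasiSeparatedSpace X := (quasiSeparated_iff_quasiSeparatedSpace f).mp inferInstance
  have hqc1 : QuasiCompact (mx (PicLoc.fS f) X.toSpecΓ (PicLoc.toSpecΓ_fS f) D) :=
    MorphismProperty.of_isPullback (isPullback_mx (PicLoc.fS f) X.toSpecΓ (PicLoc.toSpecΓ_fS f) D)
      (inferInstance : QuasiCompact X.toSpecΓ)
  have hqs1 : QuasiSeparated (mx (PicLoc.fS f) X.toSpecΓ (PicLoc.toSpecΓ_fS f) D) :=
    MorphismProperty.of_isPullback (isPullback_mx (PicLoc.fS f) X.toSpecΓ (PicLoc.toSpecΓ_fS f) D)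
      (inferInstance : QuasiSeparated X.toSpecΓ)
  have key := K728.SharpDesc.exists_isGen_local (q := mx (PicLoc.fS f) X.toSpecΓ (PicLoc.toSpecΓ_fS f) D) (ι := PUnit.{u+1})
    (T' := fun _ => tw (PicLoc.fS f) D') (Y' := fun _ => tw f D') (v := fun _ => mp (PicLoc.fS f) g)
    (h := fun _ => mp f g) (q' := fun _ => mx (PicLoc.fS f) X.toSpecΓ (PicLoc.toSpecΓ_fS f) D')
    (fun _ => isPullback_mx_mp (PicLoc.fS f) X.toSpecΓ (PicLoc.toSpecΓ_fS f) g)
    (fun t => ⟨⟨⟩, surjective_mp (PicLoc.fS f) g hs t⟩) L hL (fun _ => un _)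
    (fun _ => ⟨_, rfl, PicLoc.isInvertible_structureModule _⟩) (fun _ => by rw [pullCl_un]; exact h)
    (fun _ => bijective_toS f D' hD')
  obtain ⟨d, hd, hde⟩ := K728.SharpDesc.exists_push (mx (PicLoc.fS f) X.toSpecΓ (PicLoc.toSpecΓ_fS f) D) (bijective_toS f D hD) L key
  have h1 : IsFinite (PicLoc.fS f) := (IsFinite.SpecMap_iff _).2 hfin
  have h2 : IsFinite (qr (PicLoc.fS f) D) := MorphismProperty.of_isPullback (isPullback_tw (PicLoc.fS f) D) h1
  have h3 : Subsingleton (PicLoc.PicSet (tw (PicLoc.fS f) D)) :=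
    K811.Chg.subsingleton_of_isFinite (O := D.right) (qr (PicLoc.fS f) D)
  have h4 : d = un _ := K811.Chg.isTrivialCl_of_subsingleton h3 hd
  rw [hde, h4, pullCl_un]

end descent

/-- The structure map of a pullback square is enough. -/
theorem pull_eq_zero_of_tr {B B' : Type u} [CommRing B] [CommRing B'] {Y : Scheme.{u}}
    {q : Y ⟶ Spec (CommRingCat.of B)} {c : PicLoc.PicSet Y} {φ : B →+* B'} (h : Tr q c φ) {Y' : Scheme.{u}}
    (j : Y' ⟶ Y) (q' : Y' ⟶ Spec (CommRingCat.of B')) (w : j ≫ q = q' ≫ Spec.map (CommRingCat.ofHom φ)) :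
    pullHom j c = 0 := by
  have H := IsPullback.of_hasPullback q (Spec.map (CommRingCat.ofHom φ))
  have e : H.lift j q' w ≫ pullback.fst _ _ = j := H.lift_fst _ _ _
  rw [← e, pullHom_comp, h _ _ H, map_zero]

/-- Triviality off `V(I)` descends along faithfully flat ring maps. -/
theorem trOff_descend {R : Type u} [CommRing R] [IsNoetherianRing R] (I : Ideal R)
    {S : Type u} [CommRing S] [Algebra R S] [Module.FaithfullyFlat R S] {X X' : Scheme.{u}}
    (f : X ⟶ Spec (CommRingCat.of R)) [IsProper f] (f' : X' ⟶ Spec (CommRingCat.of S)) (π : X' ⟶ X)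
    (hp : IsPullback π f' f (Spec.map (CommRingCat.ofHom (algebraMap R S)))) (d : PicLoc.PicSet X)
    (h : TrOff f' (pullHom π d) (I.map (algebraMap R S))) : TrOff f d I := by
  intro P hP hIP
  obtain ⟨P', hP'⟩ := PrimeSpectrum.comap_surjective_of_faithfullyFlat (A := R) (B := S) ⟨P, hP⟩
  have hP'' : P = P'.asIdeal.comap (algebraMap R S) := (congrArg PrimeSpectrum.asIdeal hP').symm
  have hP'p := P'.2
  let ψ : Localization.AtPrime P →+* Localization.AtPrime P'.asIdeal :=
    Localization.localRingHom P P'.asIdeal (algebraMap R S) hP''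
  have hflS : (algebraMap R S).Flat := RingHom.flat_algebraMap_iff.2 inferInstance
  have hψ : ψ.Flat := RingHom.Flat.localRingHom hflS P'.asIdeal P hP''
  have hflR : (algebraMap R (Localization.AtPrime P)).Flat :=
    RingHom.flat_algebraMap_iff.2 (IsLocalization.flat _ P.primeCompl)
  have hloc : IsLocalHom ψ := Localization.isLocalHom_localRingHom P P'.asIdeal (algebraMap R S) hP''
  have hcomp : ψ.comp (algebraMap R (Localization.AtPrime P)) =
      (algebraMap S (Localization.AtPrime P'.asIdeal)).comp (algebraMap R S) := by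
    ext x
    exact Localization.localRingHom_to_map P P'.asIdeal (algebraMap R S) hP'' x
  have hs : Function.Surjective (Spec.map (CommRingCat.ofHom ψ)) := by
    letI := ψ.toAlgebra
    haveI : Module.Flat (Localization.AtPrime P) (Localization.AtPrime P'.asIdeal) := hψ
    haveI : IsLocalHom (algebraMap (Localization.AtPrime P) (Localization.AtPrime P'.asIdeal)) := hloc
    haveI : Module.FaithfullyFlat (Localization.AtPrime P) (Localization.AtPrime P'.asIdeal) :=
      Module.FaithfullyFlat.of_flat_of_isLocalHom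
    exact PrimeSpectrum.comap_surjective_of_faithfullyFlat (A := Localization.AtPrime P)
      (B := Localization.AtPrime P'.asIdeal)
  let D : Under (CommRingCat.of R) := Under.mk (CommRingCat.ofHom (algebraMap R (Localization.AtPrime P)))
  let D' : Under (CommRingCat.of R) := Under.mk (D.hom ≫ CommRingCat.ofHom ψ)
  let g : D ⟶ D' := Under.homMk (CommRingCat.ofHom ψ)
  have : IsLocalRing D.right := inferInstanceAs (IsLocalRing (Localization.AtPrime P))
  have hzero : pullHom (pr f D') d = 0 := by
    have w : pr f D' ≫ f = (qr f D' ≫ Spec.map (CommRingCat.ofHom (algebraMap S (Localization.AtPrime P'.asIdeal)))) ≫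
        Spec.map (CommRingCat.ofHom (algebraMap R S)) := by
      rw [(isPullback_tw f D').w, Category.assoc, ← Spec.map_comp, ← CommRingCat.ofHom_comp, ← hcomp]
      rfl
    have e : hp.lift _ _ w ≫ π = pr f D' := hp.lift_fst _ _ _
    rw [← e, pullHom_comp]
    refine pull_eq_zero_of_tr (h P'.asIdeal ?_) _ (qr f D') (hp.lift_snd _ _ w)
    intro hle
    exact hIP (by rw [hP'']; exact Ideal.map_le_iff_le_comap.1 hle)
  have h0 : pullHom (mp f g) (pullHom (pr f D) d) = 0 := by
    rw [← pullHom_comp, mp_pr, hzero]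
  have h1 : (pullHom (pr f D) d).1 = un _ := by
    refine trivial_of_faithfullyFlat f (Groth.Agent.FlatA.SteinNoeth.finite_toGlobal R X f) g hflR
      (RingHom.Flat.comp hflR hψ) hψ hs (pullHom (pr f D) d).2 ?_
    rw [← pullHom_val, h0, ← unitPicSet_eq_zero]
    rfl
  refine tr_of_isPullback (isPullback_tw f D) ?_
  rw [← isTrivialCl_iff]
  exact h1

/-- **Descent of sharp classes** from the completion to a noetherian henselian pair. -/
theorem exists_descent {R : Type u} [CommRing R] [IsNoetherianRing R] (I : Ideal R) [HenselianRing R I]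
    {S : Type u} [CommRing S] [Algebra R S] (hS : K730.CP I S) {X X' : Scheme.{u}}
    (f : X ⟶ Spec (CommRingCat.of R)) [IsProper f] (f' : X' ⟶ Spec (CommRingCat.of S)) (π : X' ⟶ X)
    (hp : IsPullback π f' f (Spec.map (CommRingCat.ofHom (algebraMap R S)))) (c : PicLoc.PicSet X')
    (hc : TrOff f' c (I.map (algebraMap R S))) :
    ∃ d : PicLoc.PicSet X, pullHom π d = c ∧ TrOff f d I := by
  have hff : Module.FaithfullyFlat R S := HensDesc.faithfullyFlat hS HenselianRing.jac
  have hpr : IsProper f' := MorphismProperty.of_isPullback hp inferInstance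
  suffices hex : ∃ d : PicLoc.PicSet X, pullHom π d = c by
    obtain ⟨d, rfl⟩ := hex
    exact ⟨d, rfl, trOff_descend I f f' π hp d hc⟩
  obtain ⟨c, L', rfl, hL'⟩ := c
  -- the Stein factorisation
  let B : Type u := Γ(X, ⊤)
  let _ : Algebra R B := ((Scheme.ΓSpecIso (CommRingCat.of R)).inv ≫ f.appTop).hom.toAlgebra
  have hBfin : Module.Finite R B := Groth.Agent.FlatA.SteinNoeth.finite_toGlobal R X f
  have hBn : IsNoetherianRing B := IsNoetherianRing.of_finite R B
  have hBh : HenselianRing B (I.map (algebraMap R B)) := Groth.Agent.S0526.result R I B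
  let g : X ⟶ Spec (CommRingCat.of B) := X.toSpecΓ
  have hg : g ≫ Spec.map (CommRingCat.ofHom (algebraMap R B)) = f := PicLoc.toSpecΓ_fS f
  have hgp : IsProper g := by
    have : IsProper (g ≫ Spec.map (CommRingCat.ofHom (algebraMap R B))) := by rw [hg]; infer_instance
    exact IsProper.of_comp g (Spec.map (CommRingCat.ofHom (algebraMap R B)))
  have hgi : IsIso g.appTop := by
    change IsIso X.toSpecΓ.appTop
    rw [Scheme.toSpecΓ_appTop]
    infer_instance
  let inl : B →+* B ⊗[R] S := algebraMap B (B ⊗[R] S)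
  let inr : S →+* B ⊗[R] S := (Algebra.TensorProduct.includeRight (R := R) (A := B) (B := S)).toRingHom
  have hQ : IsPullback (Spec.map (CommRingCat.ofHom inl)) (Spec.map (CommRingCat.ofHom inr))
      (Spec.map (CommRingCat.ofHom (algebraMap R B))) (Spec.map (CommRingCat.ofHom (algebraMap R S))) :=
    isPullback_SpecMap_of_isPushout _ _ _ _ (CommRingCat.isPushout_tensorProduct R B S)
  have w : (π ≫ g) ≫ Spec.map (CommRingCat.ofHom (algebraMap R B)) = f' ≫ Spec.map (CommRingCat.ofHom (algebraMap R S)) := by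
    rw [Category.assoc, hg, hp.w]
  let g' : X' ⟶ Spec (CommRingCat.of (B ⊗[R] S)) := hQ.lift (π ≫ g) f' w
  have hg'1 : g' ≫ Spec.map (CommRingCat.ofHom inl) = π ≫ g := hQ.lift_fst _ _ _
  have hg'2 : g' ≫ Spec.map (CommRingCat.ofHom inr) = f' := hQ.lift_snd _ _ _
  have hsq : IsPullback g' π (Spec.map (CommRingCat.ofHom inl)) g := by
    have h1 : IsPullback (g' ≫ Spec.map (CommRingCat.ofHom inr)) π (Spec.map (CommRingCat.ofHom (algebraMap R S)))
        (g ≫ Spec.map (CommRingCat.ofHom (algebraMap R B))) := by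
      rw [hg'2, hg]
      exact hp.flip
    exact IsPullback.of_right h1 hg'1 hQ.flip
  have hgen : ∀ y ∈ offV ((I.map (algebraMap R B)).map (algebraMap B (B ⊗[R] S))),
      ∃ (W : (Spec (CommRingCat.of (B ⊗[R] S))).Opens) (m : Γ(L', g' ⁻¹ᵁ W)), y ∈ W ∧ IsGen m := by
    intro y hy
    let z : Spec (CommRingCat.of S) := Spec.map (CommRingCat.ofHom inr) y
    have hz : ¬ (I.map (algebraMap R S) ≤ z.asIdeal) := by
      intro hle
      rw [mem_offV] at hy
      apply hy
      rw [map_eq B]
      change ((Ideal.map _ _ : Ideal (B ⊗[R] S)) : Set (B ⊗[R] S)) ⊆ y.asIdeal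
      rw [SetLike.coe_subset_coe, Ideal.map_le_iff_le_comap]
      exact hle
    have hzp := z.2
    have sq := IsPullback.of_hasPullback f' (Spec.map (CommRingCat.ofHom (algebraMap S (Localization.AtPrime z.asIdeal))))
    obtain ⟨W, m, hW, hm⟩ := exists_isGen_of_trivial f' L' hL' z sq (by
      have h1 := congrArg Subtype.val (hc z.asIdeal hz _ _ sq)
      rw [← unitPicSet_eq_zero] at h1
      exact h1)
    have he : g' ⁻¹ᵁ ((Spec.map (CommRingCat.ofHom inr)) ⁻¹ᵁ W) = f' ⁻¹ᵁ W := by
      rw [← Scheme.Hom.comp_preimage, hg'2]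
    exact ⟨(Spec.map (CommRingCat.ofHom inr)) ⁻¹ᵁ W, res L' he.le m, hW, hm.res he.le⟩
  obtain ⟨L, hL, ⟨e⟩⟩ := DescGen.exists_descent (I.map (algebraMap R B)) (cp_tensor B hS) g g' π hsq hgi L' hL' hgen
  exact ⟨⟨PicF.cl L, L, rfl, hL⟩, Subtype.ext (Quot.sound ⟨e⟩)⟩

end K473.Desc
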