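import Groth.Agent.PicLoc.K730.DescInv
import Groth.Agent.PicLoc.K728.RSharp

/-!
# Descent of invertible modules along `X^ → X`, `f_* O = O`, trivial locally on the base off `V(I)`
-/

set_option autoImplicit false
universe u

open CategoryTheory CategoryTheory.Limits AlgebraicGeometry Opposite
open scoped TensorProduct

namespace K473.DescGen

open K730 K730.HensDesc K730.DescInv Groth.Agent Groth.Agent.Fdesc.LocGen K811.GenNear

/-- A map of modules which is locally on `O` an isomorphism restricts to an isomorphism on `O`. -/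
theorem isIso_restrict_of_locally {X : Scheme.{u}} {M N : X.Modules} (φ : M ⟶ N) (O : X.Opens)
    (h : ∀ x ∈ O, ∃ U : X.Opens, x ∈ U ∧ IsIso ((Scheme.Modules.restrictFunctor U.ι).map φ)) :
    IsIso ((Scheme.Modules.restrictFunctor O.ι).map φ) := by
  let ψ := (Scheme.Modules.restrictFunctor O.ι).map φ
  have key : IsIso (ψ.mapPresheaf) := by
    let F : TopCat.Sheaf Ab (O : Scheme.{u}) := ⟨_, ((Scheme.Modules.restrictFunctor O.ι).obj M).isSheaf⟩
    let G : TopCat.Sheaf Ab (O : Scheme.{u}) := ⟨_, ((Scheme.Modules.restrictFunctor O.ι).obj N).isSheaf⟩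
    let f : F ⟶ G := ⟨ψ.mapPresheaf⟩
    have : IsIso f := by
      rw [TopCat.Presheaf.isIso_iff_stalkFunctor_map_iso]
      intro x
      obtain ⟨U, hxU, hU⟩ := h x.1 x.2
      have h1 : IsIso ((Scheme.Modules.restrictFunctor U.ι ⋙ Scheme.Modules.toPresheaf _ ⋙
        TopCat.Presheaf.stalkFunctor _ (⟨x.1, hxU⟩ : U)).map φ) := by
        dsimp only [Functor.comp_map]
        infer_instance
      rw [NatIso.isIso_map_iff (Scheme.Modules.restrictStalkNatIso U.ι ⟨x.1, hxU⟩)] at h1
      have h2 : IsIso ((Scheme.Modules.restrictFunctor O.ι ⋙ Scheme.Modules.toPresheaf _ ⋙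
        TopCat.Presheaf.stalkFunctor _ x).map φ) := by
        rw [NatIso.isIso_map_iff (Scheme.Modules.restrictStalkNatIso O.ι x)]
        exact h1
      exact h2
    exact (inferInstance : IsIso ((TopCat.Sheaf.forget _ _).map f))
  have : IsIso ((Scheme.Modules.toPresheaf (O : Scheme.{u})).map ψ) := key
  exact isIso_of_reflects_iso ψ (Scheme.Modules.toPresheaf _)

/-- Generators over the base, near points where the class is trivial over the local ring. -/
theorem exists_isGen_of_trivial {S : Type u} [CommRing S] {Y : Scheme.{u}} (q : Y ⟶ Spec (CommRingCat.of S))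
    [IsProper q] (L : Y.Modules) (hL : PicF.IsInvertible L) (y : Spec (CommRingCat.of S))
    {Y' : Scheme.{u}} {j : Y' ⟶ Y} {q' : Y' ⟶ Spec (CommRingCat.of (Localization.AtPrime y.asIdeal))}
    (sq : IsPullback j q' q (Spec.map (CommRingCat.ofHom (algebraMap S (Localization.AtPrime y.asIdeal)))))
    (triv : PicF.pullCl j (PicF.cl L) = PicF.cl (Coh.structureModule _)) :
    ∃ (W : (Spec (CommRingCat.of S)).Opens) (m : Γ(L, q ⁻¹ᵁ W)), y ∈ W ∧ IsGen m := by
  let φ : S →+* Localization.AtPrime y.asIdeal := algebraMap _ _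
  have hcomap : (IsLocalRing.maximalIdeal (Localization.AtPrime y.asIdeal)).comap φ = y.asIdeal :=
    IsLocalization.AtPrime.under_maximalIdeal _ y.asIdeal
  obtain ⟨τ, hτ⟩ := K728.KeyLift.exists_isGen_of_iso ((K727.PrePicLim.cl_eq_iff _ _).1 triv)
  have hfl : φ.Flat := RingHom.flat_algebraMap_iff.2 (IsLocalization.flat _ y.asIdeal.primeCompl)
  have hv : Flat (Spec.map (CommRingCat.ofHom φ)) := by
    rw [HasRingHomProperty.Spec_iff (P := @Flat)]
    exact hfl
  have hres : ∀ a : Localization.AtPrime y.asIdeal, ∃ s b : S, IsUnit (φ s) ∧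
      φ s * a - φ b ∈ IsLocalRing.maximalIdeal (Localization.AtPrime y.asIdeal) := by
    intro a
    obtain ⟨b, s, rfl⟩ := IsLocalization.exists_mk'_eq y.asIdeal.primeCompl a
    refine ⟨s, b, IsLocalization.map_units _ s, ?_⟩
    have : φ s * IsLocalization.mk' (Localization.AtPrime y.asIdeal) b s - φ b = 0 := by
      rw [IsLocalization.mk'_spec', sub_self]
    rw [this]
    exact zero_mem _
  obtain ⟨U₀, n, hxU, hn⟩ := exists_isGen_near q.isClosedMap sq
    (IsLocalRing.closedPoint (Localization.AtPrime y.asIdeal) : Spec (CommRingCat.of (Localization.AtPrime y.asIdeal)))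
    (K728.RSharp.hres_Spec φ hres) L hL τ hτ
  refine ⟨U₀, n, ?_, hn⟩
  have : (Spec.map (CommRingCat.ofHom φ))
      (IsLocalRing.closedPoint (Localization.AtPrime y.asIdeal) : Spec (CommRingCat.of (Localization.AtPrime y.asIdeal))) = y :=
    PrimeSpectrum.ext hcomap
  exact this ▸ hxU

/-- The direct image is flat where it is locally generated by one element. -/
theorem flatAway_of_gen {S : Type u} [CommRing S] {X' : Scheme.{u}} (f' : X' ⟶ Spec (CommRingCat.of S))
    (hf' : ∀ O : (Spec (CommRingCat.of S)).Opens, Function.Bijective (f'.app O)) {L' : X'.Modules} (s : S)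
    (hgen : ∀ y : Spec (CommRingCat.of S), s ∉ y.asIdeal →
      ∃ (W : (Spec (CommRingCat.of S)).Opens) (m : Γ(L', f' ⁻¹ᵁ W)), y ∈ W ∧ IsGen m)
    (N : Type u) [AddCommGroup N] [Module S N]
    (e : (Scheme.Modules.pushforward f').obj L' ≅ tilde (R := CommRingCat.of S) (ModuleCat.of S N)) :
    FlatAway s N := by
  have h1 : PicF.IsInvertible ((Scheme.Modules.pullback
      (Spec.map (CommRingCat.ofHom (algebraMap S (Localization.Away s))))).obj
      ((Scheme.Modules.pushforward f').obj L')) := by
    rw [isInvertible_iff]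
    intro z
    obtain ⟨W, m, hW, hm⟩ := hgen (Spec.map (CommRingCat.ofHom (algebraMap S (Localization.Away s))) z) (by
      intro h3
      have h4 : algebraMap S (Localization.Away s) s ∈ z.asIdeal := h3
      exact z.isPrime.ne_top (Ideal.eq_top_of_isUnit_mem _ h4 (IsLocalization.Away.algebraMap_isUnit _)))
    exact ⟨_, _, hW, (S3223.isGen_push f' hf' m hm).pullSec (Spec.map (CommRingCat.ofHom (algebraMap S (Localization.Away s))))⟩
  have e2 : (Scheme.Modules.pullback (Spec.map (CommRingCat.ofHom (algebraMap S (Localization.Away s))))).obj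
      ((Scheme.Modules.pushforward f').obj L') ≅
      tilde (R := CommRingCat.of (Localization.Away s)) (ModuleCat.of (Localization.Away s) (Localization.Away s ⊗[S] N)) :=
    (Scheme.Modules.pullback _).mapIso e ≪≫ Groth.Agent.Ega1.TildePullback.pullbackTildeIso S (Localization.Away s) N
  obtain ⟨N', _, _, h2, ⟨e3⟩⟩ := PicSpec.exists_tilde _ _ h1
  obtain ⟨e4⟩ := PicSpec.equiv_of_iso (e2.symm ≪≫ e3)
  have h3 : Module.Flat (Localization.Away s) N' := by
    have : Module.Projective (Localization.Away s) N' := inferInstance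
    infer_instance
  have h4 : Module.Flat (Localization.Away s) (Localization.Away s ⊗[S] N) := Module.Flat.of_linearEquiv e4
  exact Module.Flat.trans S (Localization.Away s) _

/-- **Descent of invertible modules along `X^ → X`**, `(R, I)` noetherian henselian, `X` proper over `R` with
`Γ(X, O) = R`, for modules which are trivial locally over the base off `V(I)`. -/
theorem exists_descent {R : Type u} [CommRing R] [IsNoetherianRing R] (I : Ideal R) [HenselianRing R I]
    {S : Type u} [CommRing S] [Algebra R S] (hS : CP I S) {X X' : Scheme.{u}}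
    (f : X ⟶ Spec (CommRingCat.of R)) [IsProper f] (f' : X' ⟶ Spec (CommRingCat.of S)) (π : X' ⟶ X)
    (hp : IsPullback f' π (Spec.map (CommRingCat.ofHom (algebraMap R S))) f)
    (hf : IsIso f.appTop) (L' : X'.Modules) (hL' : PicF.IsInvertible L')
    (hgen : ∀ y ∈ offV (I.map (algebraMap R S)),
      ∃ (W : (Spec (CommRingCat.of S)).Opens) (m : Γ(L', f' ⁻¹ᵁ W)), y ∈ W ∧ IsGen m) :
    ∃ L : X.Modules, PicF.IsInvertible L ∧ Nonempty ((Scheme.Modules.pullback π).obj L ≅ L') := by
  have hSn := hS.isNoetherianRing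
  have hSf := hS.flat
  have hff : Module.FaithfullyFlat R S := faithfullyFlat hS HenselianRing.jac
  have hpr : IsProper f' := MorphismProperty.of_isPullback hp.flip inferInstance
  let _ : X.Over (Spec (CommRingCat.of R)) := ⟨f⟩
  let _ : X'.Over (Spec (CommRingCat.of S)) := ⟨f'⟩
  let _ : X'.Over (Spec (CommRingCat.of R)) := ⟨f' ≫ Spec.map (CommRingCat.ofHom (algebraMap R S))⟩
  have hc : K573.BaseRing.Compat R S X' := rfl
  have hpr1 : IsProper (X ↘ Spec (CommRingCat.of R)) := inferInstanceAs (IsProper f)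
  have hpr2 : IsProper (X' ↘ Spec (CommRingCat.of S)) := inferInstanceAs (IsProper f')
  have hNX : IsNoetherian X := Groth.Agent.FormalB.GrCoh.isNoetherian_of_isProper (A := R)
  have hNX' : IsNoetherian X' := Groth.Agent.FormalB.GrCoh.isNoetherian_of_isProper (A := S)
  have hfl : Flat (Spec.map (CommRingCat.ofHom (algebraMap R S))) := by
    rw [Flat.SpecMap_iff]
    exact RingHom.flat_algebraMap_iff.2 inferInstance
  have hf' : ∀ O : (Spec (CommRingCat.of S)).Opens, Function.Bijective (f'.app O) :=
    K727.FlatConn.bijective_app hp.flip hf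
  -- the direct image
  have hLc : Coh.IsCoh L' :=
    Groth.Agent.PerfA.CohSerre.isCoh_of_isFinLocFree (K275.PushBC.isFinLocFree_of_isInvertible hL')
  have hMc : Coh.IsCoh ((Scheme.Modules.pushforward f').obj L') :=
    Groth.Agent.FormalA.ExInd.isCoh_pushforward_of_isProper f' L' hLc
  obtain ⟨N, hNfin, ⟨eN⟩⟩ := Groth.Agent.Fcompl.H553.EssSurj.exists_tilde_coh (R := CommRingCat.of S) _ hMc
  have hfa : ∀ t ∈ I, FlatAway (algebraMap R S t) N := by
    intro t ht
    refine flatAway_of_gen f' hf' _ (fun y hy => hgen y ?_) N eN.symm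
    rw [mem_offV]
    exact fun hz => hy (hz (Ideal.mem_map_of_mem _ ht))
  obtain ⟨N₀, _, _, hfin₀, ⟨e₀⟩⟩ := HensDesc.descend R I S hS N hfa
  let G₀ : (Spec (CommRingCat.of R)).Modules := tilde (R := CommRingCat.of R) (ModuleCat.of R N₀)
  have hG₀ : Coh.IsCoh G₀ := by
    have : IsNoetherianRing (CommRingCat.of R) := inferInstanceAs (IsNoetherianRing R)
    have : Module.Finite (CommRingCat.of R) (ModuleCat.of R N₀) := hfin₀
    exact Groth.Agent.Ega1.ExtendAff2.isCoh_tilde _
  let g := Spec.map (CommRingCat.ofHom (algebraMap R S))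
  let eG : (Scheme.Modules.pullback π).obj ((Scheme.Modules.pullback f).obj G₀) ≅
      (Scheme.Modules.pullback f').obj ((Scheme.Modules.pushforward f').obj L') :=
    (Scheme.Modules.pullbackComp π f).app G₀ ≪≫ (Scheme.Modules.pullbackCongr hp.w.symm).app G₀ ≪≫
      ((Scheme.Modules.pullbackComp f' g).app G₀).symm ≪≫
      (Scheme.Modules.pullback f').mapIso (Groth.Agent.Ega1.TildePullback.pullbackTildeIso R S N₀ ≪≫
        PicSpec.tildeMapIso e₀ ≪≫ eN)
  let ε := eG.hom ≫ (Scheme.Modules.pullbackPushforwardAdjunction f').counit.app L'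
  have hε : Formal2.KerCokerKilledByIPowHom I ε := by
    have i1 : IsIso ((Scheme.Modules.restrictFunctor (f' ⁻¹ᵁ offV (I.map (algebraMap R S))).ι).map
        ((Scheme.Modules.pullbackPushforwardAdjunction f').counit.app L')) := by
      refine isIso_restrict_of_locally _ _ fun x hx => ?_
      obtain ⟨W, m, hW, hm⟩ := hgen (f' x) hx
      obtain ⟨e⟩ := S3223.trivial_of_isGen hm
      refine ⟨f' ⁻¹ᵁ W, hW, Groth.Agent.Fga.CounitRestrict.isIso_restrict_counit f' W L' ?_⟩
      rw [NatTrans.isIso_app_iff_of_iso _ e]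
      exact Groth.Agent.Fga.CounitRestrict.isIso_counit_structureModule _
        (Groth.Agent.Fga.UnitRestrict.bijective_morphismRestrict_app f' hf' W)
    have i2 : IsIso ((Scheme.Modules.restrictFunctor (f' ⁻¹ᵁ offV (I.map (algebraMap R S))).ι).map ε) := by
      change IsIso ((Scheme.Modules.restrictFunctor (f' ⁻¹ᵁ offV (I.map (algebraMap R S))).ι).map (eG.hom ≫ _))
      rw [Functor.map_comp]
      infer_instance
    refine KillOff.kerCoker_of_isIso I (f' ⁻¹ᵁ offV (I.map (algebraMap R S))).ι (fun x => ?_)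
      (Groth.Agent.FormalB.PullCoh.isCoh_pullback π (Groth.Agent.FormalB.PullCoh.isCoh_pullback f hG₀)) hLc ε
    rw [Scheme.Opens.range_ι]
    change f' x ∈ offV (I.map (algebraMap R S)) ↔ g (f' x) ∈ offV I
    refine ⟨fun h => spec_mem_offV I _ h, fun h h' => h ?_⟩
    change (I : Set R) ⊆ (g (f' x)).asIdeal
    intro a ha
    exact h' (Ideal.mem_map_of_mem _ ha)
  obtain ⟨L, hL, ⟨eL⟩⟩ := DescX.exists_of_kerCoker hS hc π hp ((Scheme.Modules.pullback f).obj G₀)
    (Groth.Agent.FormalB.PullCoh.isCoh_pullback f hG₀) L' hLc ε hε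
  have hsj : Surjective (Spec.map (CommRingCat.ofHom (algebraMap R S))) := surjective_spec
  have h1 : Flat π := MorphismProperty.of_isPullback hp hfl
  have h2 : Surjective π := MorphismProperty.of_isPullback hp hsj
  have h3 : QuasiCompact π := MorphismProperty.of_isPullback hp inferInstance
  exact ⟨L, K275.PushBC.isInvertible_of_single π L hL.1
    (Groth.Agent.PerfB.LimMod.isInvertible_of_iso eL.symm hL'), ⟨eL⟩⟩

end K473.DescGen
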